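import Cfsg.Agent.EqLemmas

/-!
# Strongly `p`-embedded subgroups: elementary facts

* `isStronglyPEmbedded_iff_forall`: characterization by normalizers of nontrivial subgroups of a Sylow.
* `sylow_le_of_inf`, `pGroup_le_of_mem`: a `p`-subgroup meeting `H` nontrivially lies in `H`.
* `mem_of_conj_mem`: `x ∈ H` of order `p` and `a x a⁻¹ ∈ H` imply `a ∈ H`.
* `of_centralizer_le`: converse criterion (centralizers of order-`p` elements and `N(S)`).
-/

set_option autoImplicit false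

namespace Cfsg.Agent.StrongPEmb

open Subgroup
open scoped Pointwise

variable {G : Type*} [Group G] {p : ℕ} [Fact p.Prime]

theorem not_pRankLE_zero [Finite G] {Q : Subgroup G} (hQ : IsPGroup p Q) (hne : Q ≠ ⊥) :
    ¬ Cfsg.PRankLE p 0 Q := by
  have hp := Fact.out (p := p.Prime)
  intro h
  haveI : Nontrivial Q := (Subgroup.nontrivial_iff_ne_bot Q).mpr hne
  obtain ⟨n, hn, hc⟩ := hQ.nontrivial_iff_card.mp ‹_›
  obtain ⟨x, hx⟩ := exists_prime_orderOf_dvd_card' (G := Q) p (hc ▸ dvd_pow_self p hn.ne')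
  have := h (Subgroup.zpowers x) inferInstance (fun a ha => by
    obtain ⟨k, rfl⟩ := Subgroup.mem_zpowers_iff.mp ha
    rw [← zpow_natCast, ← zpow_mul, mul_comm, zpow_mul, zpow_natCast, ← hx, pow_orderOf_eq_one, one_zpow])
  rw [Nat.card_zpowers, hx, pow_zero] at this
  exact absurd this (by have := hp.two_le; omega)

theorem ne_bot_of_not_pRankLE_zero [Finite G] {Q : Subgroup G} (h : ¬ Cfsg.PRankLE p 0 Q) : Q ≠ ⊥ := by
  rintro rfl
  apply h
  intro A _ _
  rw [pow_zero]
  exact le_of_le_of_eq (Nat.card_le_card_of_injective (fun a : A => (a : (⊥ : Subgroup G)))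
    Subtype.val_injective) (by simp)

theorem isStronglyPEmbedded_iff_forall [Finite G] (H : Subgroup G) :
    Cfsg.IsStronglyPEmbedded p H ↔ p ∣ Nat.card G ∧ H ≠ ⊤ ∧ ∃ P : Sylow p G,
      ∀ Q : Subgroup G, Q ≤ (P : Subgroup G) → Q ≠ ⊥ → Subgroup.normalizer (Q : Set G) ≤ H := by
  refine ⟨fun ⟨a, b, P, hP⟩ => ⟨a, b, P, fun Q hQ hne => ?_⟩, fun ⟨a, b, P, hP⟩ => ⟨a, b, P, ?_⟩⟩
  · refine le_trans ?_ hP
    exact le_iSup_of_le (ι := {Q : Subgroup G // Q ≤ (P : Subgroup G) ∧ ¬ Cfsg.PRankLE p (1 - 1) Q})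
      ⟨Q, hQ, not_pRankLE_zero (P.isPGroup'.to_le hQ) hne⟩ le_rfl
  · exact iSup_le fun Q => hP _ Q.2.1 (ne_bot_of_not_pRankLE_zero Q.2.2)

variable [Finite G] {H : Subgroup G}

theorem exists_sylow_le (hH : Cfsg.IsStronglyPEmbedded p H) :
    ∃ P : Sylow p G, (P : Subgroup G) ≤ H := by
  obtain ⟨hd, _, P, hP⟩ := (isStronglyPEmbedded_iff_forall H).mp hH
  refine ⟨P, le_trans (Subgroup.le_normalizer) (hP _ le_rfl ?_)⟩
  exact P.ne_bot_of_dvd_card hd

theorem normalizer_le (hH : Cfsg.IsStronglyPEmbedded p H) {Q : Subgroup G} (hQ : IsPGroup p Q)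
    (hne : Q ≠ ⊥) (hQH : Q ≤ H) : Subgroup.normalizer (Q : Set G) ≤ H := by
  obtain ⟨hd, _, P, hP⟩ := (isStronglyPEmbedded_iff_forall H).mp hH
  have hPH : (P : Subgroup G) ≤ H := le_trans Subgroup.le_normalizer
    (hP _ le_rfl (P.ne_bot_of_dvd_card hd))
  have hQ' : IsPGroup p (Q.subgroupOf H) := hQ.of_equiv (Subgroup.subgroupOfEquivOfLe hQH).symm
  obtain ⟨P', hP'⟩ := hQ'.exists_le_sylow
  obtain ⟨h, hh⟩ := MulAction.exists_smul_eq H P' (P.subtype hPH)
  have key : ∀ q ∈ Q, (h : G) * q * (h : G)⁻¹ ∈ (P : Subgroup G) := by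
    intro q hq
    have h1 : (⟨q, hQH hq⟩ : H) ∈ P' := hP' hq
    have h2 : MulAut.conj h • (⟨q, hQH hq⟩ : H) ∈ ((h • P' : Sylow p H) : Subgroup H) :=
      Subgroup.smul_mem_pointwise_smul _ _ _ h1
    rw [hh] at h2
    exact h2
  intro g hg
  have hne' : Q.map (MulAut.conj (h : G)).toMonoidHom ≠ ⊥ := by
    rwa [Ne, Subgroup.map_eq_bot_iff_of_injective _ (MulAut.conj (h : G)).injective]
  have hle : Q.map (MulAut.conj (h : G)).toMonoidHom ≤ P := by
    rintro _ ⟨q, hq, rfl⟩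
    exact key q hq
  have hn : (h : G) * g * (h : G)⁻¹ ∈ Subgroup.normalizer
      ((Q.map (MulAut.conj (h : G)).toMonoidHom : Subgroup G) : Set G) := by
    rw [← Subgroup.map_normalizer_eq_of_bijective _ (MulAut.conj (h : G)).bijective]
    exact ⟨g, hg, rfl⟩
  have := H.mul_mem (H.mul_mem (H.inv_mem h.2) (hP _ hle hne' hn)) h.2
  simpa [mul_assoc] using this

/-- A `p`-subgroup meeting `H` nontrivially lies in `H`. -/
theorem pGroup_le_of_mem (hH : Cfsg.IsStronglyPEmbedded p H) {Q : Subgroup G} (hQ : IsPGroup p Q)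
    {x : G} (hxQ : x ∈ Q) (hxH : x ∈ H) (hx : x ≠ 1) : Q ≤ H := by
  have hne : Q ⊓ H ≠ ⊥ := fun h => hx (by
    have : x ∈ Q ⊓ H := ⟨hxQ, hxH⟩
    rwa [h, Subgroup.mem_bot] at this)
  have hN := normalizer_le hH (hQ.to_le inf_le_left) hne inf_le_right
  by_contra hle
  haveI : Group.IsNilpotent Q := hQ.isNilpotent
  have hlt : (Q ⊓ H).subgroupOf Q < ⊤ := by
    rw [lt_top_iff_ne_top, Ne, Subgroup.subgroupOf_eq_top]
    exact fun h => hle (h.trans inf_le_right)
  obtain ⟨y, hy, hny⟩ := SetLike.exists_of_lt (normalizerCondition_of_isNilpotent _ hlt)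
  apply hny
  refine Subgroup.mem_subgroupOf.mpr ⟨y.2, hN ?_⟩
  rw [Subgroup.mem_normalizer_iff]
  intro n
  rw [Subgroup.mem_normalizer_iff] at hy
  constructor
  · intro hn
    exact (hy ⟨n, hn.1⟩).mp hn
  · intro hn
    have hnQ : n ∈ Q := by
      have := Q.mul_mem (Q.mul_mem (Q.inv_mem y.2) hn.1) y.2
      simpa [mul_assoc] using this
    exact (hy ⟨n, hnQ⟩).mpr hn

theorem isPGroup_zpowers_of_orderOf_eq {x : G} (hx : orderOf x = p) :
    IsPGroup p (Subgroup.zpowers x) :=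
  IsPGroup.of_card (n := 1) (by rw [Nat.card_zpowers, hx, pow_one])

theorem centralizer_le (hH : Cfsg.IsStronglyPEmbedded p H) {x : G} (hxH : x ∈ H) (hx : orderOf x = p) :
    Subgroup.centralizer ({x} : Set G) ≤ H := by
  have hne : Subgroup.zpowers x ≠ ⊥ := by
    rw [Ne, Subgroup.zpowers_eq_bot]
    rintro rfl
    exact (Fact.out (p := p.Prime)).ne_one (hx ▸ orderOf_one)
  refine le_trans ?_ (normalizer_le hH (isPGroup_zpowers_of_orderOf_eq hx) hne
    (Subgroup.zpowers_le.mpr hxH))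
  rw [← Subgroup.centralizer_closure, ← Subgroup.zpowers_eq_closure]
  exact Subgroup.centralizer_le_normalizer _

theorem mem_of_conj_mem (hH : Cfsg.IsStronglyPEmbedded p H) {x a : G} (hx : orderOf x = p)
    (hxH : x ∈ H) (hax : a * x * a⁻¹ ∈ H) : a ∈ H := by
  have hx1 : x ≠ 1 := by
    rintro rfl
    exact (Fact.out (p := p.Prime)).ne_one (hx ▸ orderOf_one)
  obtain ⟨P, hP⟩ := (isPGroup_zpowers_of_orderOf_eq hx).exists_le_sylow
  have hxP : x ∈ (P : Subgroup G) := hP (Subgroup.mem_zpowers x)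
  have hPH : (P : Subgroup G) ≤ H := pGroup_le_of_mem hH P.isPGroup' hxP hxH hx1
  have haxP : a * x * a⁻¹ ∈ ((a • P : Sylow p G) : Subgroup G) :=
    Subgroup.smul_mem_pointwise_smul _ (MulAut.conj a) _ hxP
  have haPH : ((a • P : Sylow p G) : Subgroup G) ≤ H :=
    pGroup_le_of_mem hH (a • P).isPGroup' haxP hax (by simpa using hx1)
  obtain ⟨h, hh⟩ := MulAction.exists_smul_eq H ((a • P).subtype haPH) (P.subtype hPH)
  rw [Sylow.smul_subtype] at hh
  have hh' := Sylow.subtype_injective hh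
  have hP1 : (P : Subgroup G) ≠ ⊥ := fun h => hx1 (by simpa [h] using hxP)
  have hN : (h : G) * a ∈ H := normalizer_le hH P.isPGroup' hP1 hPH
    (Sylow.smul_eq_iff_mem_normalizer.mp (by rw [mul_smul]; exact hh'))
  simpa using H.mul_mem (H.inv_mem h.2) hN

/-- The criterion: centralizers of elements of order `p` of a Sylow `S` of `H`, and `N(S)`, lie in `H`. -/
theorem of_centralizer_le (hHne : H ≠ ⊤) (S : Sylow p H)
    (hC : ∀ x : G, x ∈ (S : Subgroup H).map H.subtype → orderOf x = p →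
      Subgroup.centralizer ({x} : Set G) ≤ H)
    (hN : Subgroup.normalizer (((S : Subgroup H).map H.subtype : Subgroup G) : Set G) ≤ H) :
    Cfsg.IsStronglyPEmbedded p H := by
  set T : Subgroup G := (S : Subgroup H).map H.subtype with hT
  have hTH : T ≤ H := Subgroup.map_subtype_le _
  have hTp : IsPGroup p T := S.isPGroup'.map _
  have hTne : T ≠ ⊥ := by
    intro h
    apply hHne
    refine top_le_iff.mp (le_trans ?_ hN)
    rw [h]
    intro g _
    rw [Subgroup.mem_normalizer_iff]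
    intro n
    simp
  -- `T` is a Sylow subgroup of `G`
  obtain ⟨P, hTP⟩ := hTp.exists_le_sylow
  have hPT : (P : Subgroup G) = T := by
    by_contra hne
    have hlt : T.subgroupOf P < ⊤ := by
      rw [lt_top_iff_ne_top, Ne, Subgroup.subgroupOf_eq_top]
      exact fun h => hne (le_antisymm h hTP)
    haveI : Group.IsNilpotent (P : Subgroup G) := P.isPGroup'.isNilpotent
    obtain ⟨y, hy, hny⟩ := SetLike.exists_of_lt (normalizerCondition_of_isNilpotent _ hlt)
    have hyN : (y : G) ∈ Subgroup.normalizer (T : Set G) := by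
      rw [Subgroup.mem_normalizer_iff] at hy ⊢
      intro n
      constructor
      · intro hn
        exact (hy ⟨n, hTP hn⟩).mp hn
      · intro hn
        have hnP : n ∈ (P : Subgroup G) := by
          have := mul_mem (mul_mem (inv_mem y.2) (hTP hn)) y.2
          simpa [mul_assoc] using this
        exact (hy ⟨n, hnP⟩).mpr hn
    -- the p-group generated by `T` and `y` lies in `H`
    have hle : (T ⊔ Subgroup.zpowers (y : G)) ≤ H := sup_le hTH (Subgroup.zpowers_le.mpr (hN hyN))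
    have hp' : IsPGroup p ((T ⊔ Subgroup.zpowers (y : G)).subgroupOf H) :=
      (P.isPGroup'.to_le (sup_le hTP (Subgroup.zpowers_le.mpr y.2))).of_equiv
        (Subgroup.subgroupOfEquivOfLe hle).symm
    have h1 : (S : Subgroup H) ≤ (T ⊔ Subgroup.zpowers (y : G)).subgroupOf H := fun s hs =>
      Subgroup.mem_subgroupOf.mpr (le_sup_left (a := T) ⟨s, hs, rfl⟩)
    have h2 := S.is_maximal' hp' h1
    apply hny
    have h3 : (⟨(y : G), hN hyN⟩ : H) ∈ (S : Subgroup H) := h2 ▸
      Subgroup.mem_subgroupOf.mpr (le_sup_right (a := T) (Subgroup.mem_zpowers _))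
    exact ⟨_, h3, rfl⟩
  have hdvd : p ∣ Nat.card G := by
    haveI : Nontrivial T := (Subgroup.nontrivial_iff_ne_bot T).mpr hTne
    obtain ⟨n, hn, hc⟩ := hTp.nontrivial_iff_card.mp ‹_›
    exact (hc ▸ dvd_pow_self p hn.ne').trans (Subgroup.card_subgroup_dvd_card T)
  have hPH : (P : Subgroup G) ≤ H := hPT ▸ hTH
  -- all elements of order `p` in `H`
  have hC' : ∀ x : G, x ∈ H → orderOf x = p → Subgroup.centralizer ({x} : Set G) ≤ H := by
    intro x hxH hx
    have hq : IsPGroup p (Subgroup.zpowers (⟨x, hxH⟩ : H)) :=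
      IsPGroup.of_card (n := 1) (by rw [Nat.card_zpowers, pow_one, ← hx, Subgroup.orderOf_mk])
    obtain ⟨S', hS'⟩ := hq.exists_le_sylow
    obtain ⟨h, hh⟩ := MulAction.exists_smul_eq H S' S
    have h2 : MulAut.conj h • (⟨x, hxH⟩ : H) ∈ ((h • S' : Sylow p H) : Subgroup H) :=
      Subgroup.smul_mem_pointwise_smul _ _ _ (hS' (Subgroup.mem_zpowers _))
    rw [hh] at h2
    have hord : orderOf ((h : G) * x * (h : G)⁻¹) = p := by
      rw [← hx]; exact (MulAut.conj (h : G)).orderOf_eq x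
    have hCy : Subgroup.centralizer ({(h : G) * x * (h : G)⁻¹} : Set G) ≤ H :=
      hC _ ⟨_, h2, rfl⟩ hord
    intro c hc
    rw [Subgroup.mem_centralizer_singleton_iff] at hc
    have : (h : G) * c * (h : G)⁻¹ ∈ H := hCy (by
      rw [Subgroup.mem_centralizer_singleton_iff]
      calc (h : G) * c * (h : G)⁻¹ * (h * x * (h : G)⁻¹) = h * (c * x) * (h : G)⁻¹ := by group
        _ = h * (x * c) * (h : G)⁻¹ := by rw [hc]
        _ = _ := by group)
    simpa [mul_assoc] using H.mul_mem (H.mul_mem (H.inv_mem h.2) this) h.2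
  refine (isStronglyPEmbedded_iff_forall H).mpr ⟨hdvd, hHne, P, fun Q hQP hQne g hg => ?_⟩
  obtain ⟨⟨q, hqQ⟩, hq⟩ : ∃ q : Q, orderOf q = p := by
    haveI : Nontrivial Q := (Subgroup.nontrivial_iff_ne_bot Q).mpr hQne
    obtain ⟨n, hn, hc⟩ := (P.isPGroup'.to_le hQP).nontrivial_iff_card.mp ‹_›
    exact exists_prime_orderOf_dvd_card' p (hc ▸ dvd_pow_self p hn.ne')
  rw [Subgroup.orderOf_mk] at hq
  set R : Sylow p G := g • P with hR
  have hqR : q ∈ (R : Subgroup G) := by
    have hq' : g⁻¹ * q * g ∈ Q := by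
      have := (Subgroup.mem_normalizer_iff.mp (Subgroup.inv_mem _ hg) q).mp hqQ
      simpa using this
    have := Subgroup.smul_mem_pointwise_smul _ (MulAut.conj g) (P : Subgroup G) (hQP hq')
    show q ∈ MulAut.conj g • (P : Subgroup G)
    simpa [mul_assoc, MulAut.conj_apply] using this
  -- a central element of order `p` of `R` lies in `H`
  haveI : Nontrivial R := ⟨⟨⟨q, hqR⟩, 1, fun h => by
    have : q = 1 := congrArg Subtype.val h
    exact (Fact.out (p := p.Prime)).ne_one (by rw [← hq, this, orderOf_one])⟩⟩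
  have hZ : Nontrivial (Subgroup.center R) := R.isPGroup'.center_nontrivial
  obtain ⟨n, hn, hc⟩ := (R.isPGroup'.to_subgroup (Subgroup.center R)).nontrivial_iff_card.mp hZ
  obtain ⟨z, hz⟩ := exists_prime_orderOf_dvd_card' (G := Subgroup.center R) p
    (hc ▸ dvd_pow_self p hn.ne')
  have hzord : orderOf ((z : R) : G) = p := by
    rw [Subgroup.orderOf_coe, Subgroup.orderOf_coe]; exact hz
  have hzc : ∀ r ∈ (R : Subgroup G), r * ((z : R) : G) = ((z : R) : G) * r := fun r hr =>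
    congrArg Subtype.val (Subgroup.mem_center_iff.mp z.2 ⟨r, hr⟩)
  have hzH : ((z : R) : G) ∈ H :=
    hC' q (hPH (hQP hqQ)) hq (Subgroup.mem_centralizer_singleton_iff.mpr (hzc q hqR).symm)
  have hRH : (R : Subgroup G) ≤ H := fun r hr =>
    hC' _ hzH hzord (Subgroup.mem_centralizer_singleton_iff.mpr (hzc r hr))
  obtain ⟨h, hh⟩ := MulAction.exists_smul_eq H (R.subtype hRH) (P.subtype hPH)
  rw [Sylow.smul_subtype] at hh
  have hh' := Sylow.subtype_injective hh
  have hmem : (h : G) * g ∈ H := by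
    refine hN ?_
    rw [← hPT]
    exact Sylow.smul_eq_iff_mem_normalizer.mp (by rw [mul_smul]; exact hh')
  simpa using H.mul_mem (H.inv_mem h.2) hmem

end Cfsg.Agent.StrongPEmb
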