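import Cfsg.Agent.Lib.StrongPEmb.Basic
import Cfsg.Agent.Lib.PLocal.Quotient

/-!
# Strongly `p`-embedded subgroups and quotients by `p'`-subgroups

* `map_mk`: the image of a strongly `p`-embedded subgroup modulo a normal `p'`-subgroup `O`
  with `H ⊔ O ≠ ⊤` is strongly `p`-embedded
* `pCore_eq_bot`: a group with a strongly `p`-embedded subgroup has trivial `O_p`
-/

set_option autoImplicit false

namespace Cfsg.Agent.StrongPEmb

open Subgroup

variable {G : Type*} [Group G] [Finite G] {p : ℕ} [Fact p.Prime] {H : Subgroup G}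

theorem map_mk (hH : Cfsg.IsStronglyPEmbedded p H) (O : Subgroup G) [O.Normal]
    (hO : (Nat.card O).Coprime p) (hne : H ⊔ O ≠ ⊤) :
    Cfsg.IsStronglyPEmbedded p (H.map (QuotientGroup.mk' O)) := by
  obtain ⟨hd, -, P, hP⟩ := (isStronglyPEmbedded_iff_forall H).mp hH
  set π := QuotientGroup.mk' O
  have hπ : Function.Surjective π := QuotientGroup.mk'_surjective O
  have hker : π.ker = O := QuotientGroup.ker_mk' O
  refine (isStronglyPEmbedded_iff_forall _).mpr ⟨?_, ?_, P.mapSurjective hπ, ?_⟩
  · rw [card_eq_card_quotient_mul_card_subgroup O] at hd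
    exact ((Fact.out : p.Prime).dvd_mul.1 hd).resolve_right
      ((Fact.out : p.Prime).coprime_iff_not_dvd.1 hO.symm)
  · intro h
    apply hne
    have := comap_map_eq π H
    rw [h, comap_top, hker] at this
    exact this.symm
  · intro Q hQP hQne
    set R : Subgroup G := (P : Subgroup G) ⊓ Q.comap π
    have hRQ : R.map π = Q := by
      refine le_antisymm (map_le_iff_le_comap.2 inf_le_right) fun q hq => ?_
      have h1 : q ∈ (P : Subgroup G).map π := by
        have := hQP hq
        rwa [Sylow.coe_mapSurjective] at this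
      obtain ⟨x, hx, rfl⟩ := h1
      exact ⟨x, ⟨hx, hq⟩, rfl⟩
    have hRne : R ≠ ⊥ := fun h => hQne (by rw [← hRQ, h, Subgroup.map_bot])
    rw [← hRQ, PLocal.normalizer_map_eq π hπ (by rwa [hker]) (P.2.to_le inf_le_left)]
    exact map_mono (hP R inf_le_left hRne)

theorem pCore_eq_bot (hH : Cfsg.IsStronglyPEmbedded p H) (hQ : IsPGroup p ↥(Cfsg.pCore p G))
    [(Cfsg.pCore p G).Normal] : Cfsg.pCore p G = ⊥ := by
  by_contra hne
  obtain ⟨P, hP⟩ := exists_sylow_le hH
  refine hH.2.1 (top_le_iff.1 ?_)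
  have h1 : Cfsg.pCore p G ≤ (P : Subgroup G) :=
    le_sup_right.trans
      (P.3 (IsPGroup.to_sup_of_normal_right P.2 hQ) le_sup_left).le
  have := normalizer_le hH hQ hne (h1.trans hP)
  rwa [normalizer_eq_top] at this

end Cfsg.Agent.StrongPEmb
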